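import Cfsg.Agent.H155.TI.Defs
import Cfsg.Agent.Characters.Core

/-!
# The index 2 step for the row `PSL₃(4)` of S4819, S4820: the column of `x c`
-/

set_option autoImplicit false

namespace Cfsg.Agent.H761.TI

open Cfsg Cfsg.Agent.Characters.Core Cfsg.Agent.H155.TI
open scoped ComplexConjugate

universe u

/-! ### Arithmetic -/

theorem sq_odd {a : ℤ} (h : ¬ 2 ∣ a) : ∃ k : ℤ, a ^ 2 = 8 * k + 1 := by
  obtain ⟨b, rfl⟩ : ∃ b, a = 2 * b + 1 := ⟨a / 2, by omega⟩
  rcases Int.even_or_odd b with ⟨k, rfl⟩ | ⟨k, rfl⟩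
  · exact ⟨2 * k ^ 2 + k, by ring⟩
  · exact ⟨2 * k ^ 2 + 3 * k + 1, by ring⟩

theorem sq_even {a : ℤ} (h : 2 ∣ a) : ∃ k : ℤ, a ^ 2 = 4 * k := by
  obtain ⟨b, rfl⟩ := h
  exact ⟨b ^ 2, by ring⟩

theorem sum_odd {ι : Type*} (I : Finset ι) (δ : ι → ℤ) (h : ∀ a ∈ I, ¬ 2 ∣ δ a) :
    ∃ k : ℤ, ∑ a ∈ I, δ a ^ 2 = 8 * k + I.card := by
  classical
  induction I using Finset.induction_on with
  | empty => exact ⟨0, by simp⟩
  | insert a I ha ih =>
    obtain ⟨k, hk⟩ := ih fun b hb => h b (Finset.mem_insert_of_mem hb)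
    obtain ⟨l, hl⟩ := sq_odd (h a (Finset.mem_insert_self a I))
    refine ⟨k + l, ?_⟩
    rw [Finset.sum_insert ha, Finset.card_insert_of_notMem ha, hk, hl]
    push_cast
    ring

theorem sq_pos_of_odd {a : ℤ} (h : ¬ 2 ∣ a) : 1 ≤ a ^ 2 := by
  have : a ≠ 0 := by rintro rfl; exact h (dvd_zero 2)
  have := sq_pos_of_ne_zero this
  omega

theorem card_le_sum {ι : Type*} (I : Finset ι) (δ : ι → ℤ) (h : ∀ a ∈ I, ¬ 2 ∣ δ a) :
    (I.card : ℤ) ≤ ∑ a ∈ I, δ a ^ 2 := by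
  rw [Finset.card_eq_sum_ones]
  push_cast
  exact Finset.sum_le_sum fun a ha => sq_pos_of_odd (h a ha)

/-- the arithmetic for `n = 3` -/
theorem arith3 {ι : Type*} [DecidableEq ι] (I : Finset ι) (s : ι) (hs : s ∈ I) (δ : ι → ℤ)
    (he : Even I.card) (h6 : I.card ≤ 6) (hd : ∀ a ∈ I, a ≠ s → ¬ 2 ∣ δ a) (hds : 2 ∣ δ s)
    (hsum : ∑ a ∈ I, δ a ^ 2 = 3) : I.card = 4 ∧ δ s = 0 := by
  have hd' : ∀ a ∈ I.erase s, ¬ 2 ∣ δ a := fun a ha =>
    hd a (Finset.mem_of_mem_erase ha) (Finset.ne_of_mem_erase ha)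
  have e1 : δ s ^ 2 + ∑ a ∈ I.erase s, δ a ^ 2 = ∑ a ∈ I, δ a ^ 2 :=
    Finset.add_sum_erase I (fun a => δ a ^ 2) hs
  obtain ⟨k, hk⟩ := sum_odd (I.erase s) δ hd'
  obtain ⟨l, hl⟩ := sq_even hds
  have hc := card_le_sum (I.erase s) δ hd'
  have e2 := Finset.card_erase_add_one hs
  have h0 : 0 ≤ δ s ^ 2 := sq_nonneg _
  obtain ⟨t, ht⟩ := he
  have e3 : I.card = 4 := by omega
  have e4 : δ s ^ 2 = 0 := by omega
  exact ⟨e3, pow_eq_zero_iff (two_ne_zero) |>.1 e4⟩

theorem sq_le_nine {a : ℤ} (h : a ^ 2 = 9) : a = 3 ∨ a = -3 := by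
  have : (a - 3) * (a + 3) = 0 := by linarith [h, show (a - 3) * (a + 3) = a ^ 2 - 9 by ring]
  rcases mul_eq_zero.1 this with h1 | h1
  · left; linarith
  · right; linarith

/-- the arithmetic for `n = 9` -/
theorem arith9 {ι : Type*} [DecidableEq ι] (I : Finset ι) (s : ι) (hs : s ∈ I) (δ : ι → ℤ)
    (he : Even I.card) (h6 : I.card ≤ 6) (hd : ∀ a ∈ I, a ≠ s → ¬ 2 ∣ δ a) (hds : 2 ∣ δ s)
    (hsum : ∑ a ∈ I, δ a ^ 2 = 9) : (I.card = 6 ∧ ∀ a ∈ I, ¬ 3 ∣ δ a) ∨
      (I.card = 2 ∧ (∀ a ∈ I, a ≠ s → δ a = 3 ∨ δ a = -3) ∧ δ s = 0) := by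
  have hd' : ∀ a ∈ I.erase s, ¬ 2 ∣ δ a := fun a ha =>
    hd a (Finset.mem_of_mem_erase ha) (Finset.ne_of_mem_erase ha)
  have e1 : δ s ^ 2 + ∑ a ∈ I.erase s, δ a ^ 2 = ∑ a ∈ I, δ a ^ 2 :=
    Finset.add_sum_erase I (fun a => δ a ^ 2) hs
  obtain ⟨k, hk⟩ := sum_odd (I.erase s) δ hd'
  obtain ⟨l, hl⟩ := sq_even hds
  have hc := card_le_sum (I.erase s) δ hd'
  have e2 := Finset.card_erase_add_one hs
  have h0 : 0 ≤ δ s ^ 2 := sq_nonneg _
  obtain ⟨t, ht⟩ := he
  have e3 : I.card = 6 ∨ I.card = 2 := by omega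
  -- bound for one member
  have hone : ∀ a ∈ I.erase s, δ a ^ 2 + ((I.erase s).card - 1 : ℤ) ≤ ∑ b ∈ I.erase s, δ b ^ 2 := by
    intro a ha
    have e5 : δ a ^ 2 + ∑ b ∈ (I.erase s).erase a, δ b ^ 2 = ∑ b ∈ I.erase s, δ b ^ 2 :=
      Finset.add_sum_erase (I.erase s) (fun b => δ b ^ 2) ha
    have e6 := card_le_sum ((I.erase s).erase a) δ fun b hb => hd' b (Finset.mem_of_mem_erase hb)
    have e7 := Finset.card_erase_add_one ha
    have e8 : (((I.erase s).erase a).card : ℤ) = (I.erase s).card - 1 := by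
      rw [← e7]; push_cast; ring
    linarith
  rcases e3 with e3 | e3
  · left
    refine ⟨e3, ?_⟩
    have e4 : (I.erase s).card = 5 := by omega
    have hsmall : ∀ a ∈ I.erase s, δ a ^ 2 = 1 := by
      intro a ha
      have h1 := hone a ha
      obtain ⟨k', hk'⟩ := sq_odd (hd' a ha)
      have h2 := sq_pos_of_odd (hd' a ha)
      rw [e4] at h1
      push_cast at h1
      have h5 : 8 * k' + 1 ≤ 5 := by linarith
      have h6 : 1 ≤ 8 * k' + 1 := by linarith
      have h7 : k' = 0 := by omega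
      rw [hk', h7]; norm_num
    have hsumE : ∑ b ∈ I.erase s, δ b ^ 2 = 5 := by
      rw [Finset.sum_congr rfl hsmall, Finset.sum_const, e4]; norm_num
    have hs4 : δ s ^ 2 = 4 := by omega
    intro a ha h3
    by_cases has : a = s
    · rw [has] at h3
      obtain ⟨r, hr⟩ := h3
      rw [hr] at hs4
      have : (3 * r) ^ 2 = 9 * r ^ 2 := by ring
      omega
    · have h5 := hsmall a (Finset.mem_erase.2 ⟨has, ha⟩)
      obtain ⟨r, hr⟩ := h3
      rw [hr] at h5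
      have : (3 * r) ^ 2 = 9 * r ^ 2 := by ring
      omega
  · right
    have e4 : (I.erase s).card = 1 := by omega
    obtain ⟨a0, ha0⟩ := Finset.card_eq_one.1 e4
    rw [ha0, Finset.sum_singleton] at e1
    rw [ha0, Finset.sum_singleton, Finset.card_singleton] at hk
    push_cast at hk
    have hodd : ¬ 2 ∣ δ a0 := hd' a0 (by rw [ha0]; exact Finset.mem_singleton_self a0)
    -- `δ a0 ^ 2 + δ s ^ 2 = 9`
    have hb1 : δ a0 ^ 2 = 1 ∨ δ a0 ^ 2 = 9 := by
      have := sq_pos_of_odd hodd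
      omega
    have hs0 : δ s = 0 ∧ δ a0 ^ 2 = 9 := by
      rcases hb1 with hb | hb
      · exfalso
        have h8 : δ s ^ 2 = 8 := by omega
        have h9 : -3 < δ s ∧ δ s < 3 := by constructor <;> nlinarith
        have : δ s = -2 ∨ δ s = -1 ∨ δ s = 0 ∨ δ s = 1 ∨ δ s = 2 := by omega
        rcases this with h | h | h | h | h <;> rw [h] at h8 <;> norm_num at h8
      · refine ⟨?_, hb⟩
        have h8 : δ s ^ 2 = 0 := by omega
        exact pow_eq_zero_iff (two_ne_zero) |>.1 h8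
    refine ⟨e3, fun a ha has => ?_, hs0.1⟩
    have h1 : a ∈ I.erase s := Finset.mem_erase.2 ⟨has, ha⟩
    rw [ha0, Finset.mem_singleton] at h1
    rw [h1]
    exact sq_le_nine hs0.2

/-! ### The characters of the subgroup of index 2 -/

section core

variable {Z A W : Type u} [Group Z] [Group A] [Group W] [Finite W] {j : Z →* A} {i : A →* W}
  {lam : Z →* ℂˣ} {x : A} {c d : W} {zc : Z} {m : ℂ} {n : ℕ}

omit [Finite W] in
theorem exists_phi (h : Pair j i) (c : W) : ∃ φ : A →* A, ∀ a, i (φ a) = c * i a * c⁻¹ := by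
  have hn : i.range.Normal := Subgroup.normal_of_index_eq_two h.idx
  have hmem : ∀ a, c * i a * c⁻¹ ∈ i.range := fun a => hn.conj_mem _ ⟨a, rfl⟩ c
  choose f hf using hmem
  refine ⟨⟨⟨f, ?_⟩, ?_⟩, hf⟩
  · apply h.ii
    rw [hf, map_one]; group
  · intro a b
    apply h.ii
    show i (f (a * b)) = i (f a * f b)
    rw [hf, map_mul, map_mul, hf, hf]; group

theorem phi_surj (h : Pair j i) {φ : A →* A} (hφ : ∀ a, i (φ a) = c * i a * c⁻¹) :
    Function.Surjective φ := by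
  have hA : Finite A := Finite.of_injective i h.ii
  apply Finite.surjective_of_injective
  intro a b hab
  have h1 := congrArg i hab
  rw [hφ, hφ] at h1
  exact h.ii (mul_left_cancel (mul_right_cancel h1))

omit [Finite W] in
theorem inv_iff (h : Pair j i) {φ : A →* A} (hφ : ∀ a, i (φ a) = c * i a * c⁻¹) (η : A → ℂ) :
    Inv i c η ↔ ∀ a, η (φ a) = η a := by
  constructor
  · exact fun h1 a => h1 a (φ a) (hφ a)
  · intro h1 a a' h2
    rw [← hφ] at h2
    rw [h.ii h2, h1]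

omit [Finite W] in
theorem inv_of_res (χ : IrrCharacter W) (c : W) : Inv i c (fun t => (χ : W → ℂ) (i t)) := by
  intro a a' h1
  show (χ : W → ℂ) (i a') = (χ : W → ℂ) (i a)
  rw [h1]
  exact isIrr_isClassFunction χ.2 _ _

omit [Finite W] in
theorem over_res {χ : W → ℂ} (h1 : Over (i.comp j) lam χ) : Over j lam (fun t => χ (i t)) := by
  intro z t
  show χ (i (j z * t)) = _
  rw [map_mul]
  exact h1 z (i t)

open scoped Classical in
/-- the six members: the numbers -/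
theorem six_card [Fintype (IrrCharacter A)] (s : Six j lam x) :
    (Finset.univ.filter fun η : IrrCharacter A => Over j lam (η : A → ℂ) ∧ (η : A → ℂ) x ≠ 0).card = 6 ∧
    ∃ s0 : IrrCharacter A, Over j lam (s0 : A → ℂ) ∧ ((s0 : A → ℂ) x = 2 ∨ (s0 : A → ℂ) x = -2) ∧
      ∀ η : IrrCharacter A, Over j lam (η : A → ℂ) → (η : A → ℂ) x ≠ 0 → η ≠ s0 →
        ((η : A → ℂ) x = 1 ∨ (η : A → ℂ) x = -1) := by
  have h5 := s.five
  have h1 := s.one
  rw [Nat.card_eq_fintype_card, Fintype.card_subtype] at h5 h1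
  obtain ⟨s0, hs0⟩ := Finset.card_eq_one.1 h1
  have hcases : ∀ η : IrrCharacter A, Over j lam (η : A → ℂ) → (η : A → ℂ) x ≠ 0 →
      ((η : A → ℂ) x = 1 ∨ (η : A → ℂ) x = -1) ∨ ((η : A → ℂ) x = 2 ∨ (η : A → ℂ) x = -2) := by
    intro η h2 h3
    obtain ⟨w, hw, hw2⟩ := s.int η h2
    rw [hw] at h3
    have hw0 : w ≠ 0 := by rintro rfl; exact h3 (by norm_num)
    have h4 := abs_le.1 hw2
    have h5 : w = 1 ∨ w = -1 ∨ w = 2 ∨ w = -2 := by omega
    rcases h5 with h | h | h | h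
    · left; left; rw [hw, h]; norm_num
    · left; right; rw [hw, h]; norm_num
    · right; left; rw [hw, h]; norm_num
    · right; right; rw [hw, h]; norm_num
  have hu : (Finset.univ.filter fun η : IrrCharacter A => Over j lam (η : A → ℂ) ∧ (η : A → ℂ) x ≠ 0) =
      (Finset.univ.filter fun η : IrrCharacter A => Over j lam (η : A → ℂ) ∧
        ((η : A → ℂ) x = 1 ∨ (η : A → ℂ) x = -1)) ∪
      (Finset.univ.filter fun η : IrrCharacter A => Over j lam (η : A → ℂ) ∧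
        ((η : A → ℂ) x = 2 ∨ (η : A → ℂ) x = -2)) := by
    ext η
    simp only [Finset.mem_filter, Finset.mem_univ, true_and, Finset.mem_union]
    constructor
    · rintro ⟨h2, h3⟩
      rcases hcases η h2 h3 with h4 | h4
      · exact Or.inl ⟨h2, h4⟩
      · exact Or.inr ⟨h2, h4⟩
    · rintro (⟨h2, h3 | h3⟩ | ⟨h2, h3 | h3⟩) <;> exact ⟨h2, by rw [h3]; norm_num⟩
  have hd : Disjoint (Finset.univ.filter fun η : IrrCharacter A => Over j lam (η : A → ℂ) ∧
        ((η : A → ℂ) x = 1 ∨ (η : A → ℂ) x = -1))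
      (Finset.univ.filter fun η : IrrCharacter A => Over j lam (η : A → ℂ) ∧
        ((η : A → ℂ) x = 2 ∨ (η : A → ℂ) x = -2)) := by
    rw [Finset.disjoint_left]
    intro η h2 h3
    simp only [Finset.mem_filter, Finset.mem_univ, true_and] at h2 h3
    rcases h2.2 with h4 | h4 <;> rcases h3.2 with h5 | h5 <;> rw [h4] at h5 <;> norm_num at h5
  have hmem : s0 ∈ (Finset.univ.filter fun η : IrrCharacter A => Over j lam (η : A → ℂ) ∧
        ((η : A → ℂ) x = 2 ∨ (η : A → ℂ) x = -2)) := by rw [hs0]; exact Finset.mem_singleton_self _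
  refine ⟨by rw [hu, Finset.card_union_of_disjoint hd, h5, h1], s0, ?_, ?_, ?_⟩
  · exact (Finset.mem_filter.1 hmem).2.1
  · exact (Finset.mem_filter.1 hmem).2.2
  · intro η h2 h3 h4
    rcases hcases η h2 h3 with h6 | h6
    · exact h6
    · exfalso
      apply h4
      have h7 : η ∈ (Finset.univ.filter fun η : IrrCharacter A => Over j lam (η : A → ℂ) ∧
        ((η : A → ℂ) x = 2 ∨ (η : A → ℂ) x = -2)) :=
        Finset.mem_filter.2 ⟨Finset.mem_univ _, h2, h6⟩
      rw [hs0, Finset.mem_singleton] at h7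
      exact h7

open scoped Classical in
/-- the number of members not invariant under `c` is even -/
theorem even_noninv [Fintype (IrrCharacter A)] (h : Pair j i) (hcc : c * c = i (j zc))
    (hcx : c * i x = i x * c) :
    Even (Finset.univ.filter fun η : IrrCharacter A => (Over j lam (η : A → ℂ) ∧ (η : A → ℂ) x ≠ 0) ∧
      ¬ Inv i c (η : A → ℂ)).card := by
  obtain ⟨φ, hφ⟩ := exists_phi h c
  have hs := phi_surj h hφ
  have hφφ : ∀ a, φ (φ a) = a := by
    intro a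
    apply h.ii
    rw [hφ, hφ]
    have e : c * (c * i a * c⁻¹) * c⁻¹ = (c * c) * i a * (c * c)⁻¹ := by group
    rw [e, hcc, h.cen, mul_inv_cancel_right]
  have hφx : φ x = x := by
    apply h.ii
    rw [hφ, hcx, mul_inv_cancel_right]
  have hφj : ∀ z a, φ (j z * a) = j z * φ a := by
    intro z a
    rw [map_mul]
    congr 1
    apply h.ii
    rw [hφ, ← h.cen z c, mul_inv_cancel_right]
  let g : IrrCharacter A → IrrCharacter A := fun η => ⟨(η : A → ℂ) ∘ φ, isIrr_comp φ hs η.2⟩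
  have hg : ∀ η : IrrCharacter A, ∀ a, (g η : A → ℂ) a = (η : A → ℂ) (φ a) := fun _ _ => rfl
  have hgg : ∀ η, g (g η) = η := by
    intro η
    apply Subtype.ext
    funext a
    show (η : A → ℂ) (φ (φ a)) = _
    rw [hφφ]
  have hginv : ∀ η : IrrCharacter A, g η = η ↔ Inv i c (η : A → ℂ) := by
    intro η
    rw [inv_iff h hφ]
    constructor
    · intro h1 a
      have h2 := congrArg (fun ψ : IrrCharacter A => (ψ : A → ℂ) a) h1
      exact h2
    · intro h1
      apply Subtype.ext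
      funext a
      exact h1 a
  rw [← ZMod.natCast_eq_zero_iff_even, Finset.card_eq_sum_ones, Nat.cast_sum]
  apply Finset.sum_involution (fun η _ => g η)
  · intro η _; decide
  · intro η hη _ h1
    exact (Finset.mem_filter.1 hη).2.2 ((hginv η).1 h1)
  · intro η hη
    rw [Finset.mem_filter] at hη ⊢
    refine ⟨Finset.mem_univ _, ⟨?_, ?_⟩, ?_⟩
    · intro z a
      rw [hg, hg, hφj, hη.2.1.1]
    · rw [hg, hφx]; exact hη.2.1.2
    · rw [← hginv, hgg]
      intro h1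
      exact hη.2.2 ((hginv η).1 h1.symm)
  · intro η _; exact hgg η

/-- the pieces used: Clifford theory of index 2 (a), columns over `lam` (b), `uv` (c) -/
structure Hyp (j : Z →* A) (i : A →* W) (lam : Z →* ℂˣ) (x : A) (c : W) (m : ℂ) : Prop where
  res : ∀ χ : IrrCharacter W,
    (IsIrrCharacter A (fun t => (χ : W → ℂ) (i t)) ∧ Inv i c (fun t => (χ : W → ℂ) (i t))) ∨
    ((∀ w, w ∉ i.range → (χ : W → ℂ) w = 0) ∧ ∃ η η' : IrrCharacter A, η ≠ η' ∧
      (∀ t, (χ : W → ℂ) (i t) = (η : A → ℂ) t + (η' : A → ℂ) t) ∧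
      (∀ t t', i t' = c * i t * c⁻¹ → (η : A → ℂ) t' = (η' : A → ℂ) t) ∧ ¬ Inv i c (η : A → ℂ))
  ext : ∀ η : IrrCharacter A, Inv i c (η : A → ℂ) →
    ∃ χ χ' : IrrCharacter W, χ ≠ χ' ∧ (∀ t, (χ : W → ℂ) (i t) = (η : A → ℂ) t) ∧
      (∀ t, (χ' : W → ℂ) (i t) = (η : A → ℂ) t) ∧
      (∀ w, w ∉ i.range → (χ' : W → ℂ) w = - (χ : W → ℂ) w) ∧
      (∀ ψ : IrrCharacter W, (∀ t, (ψ : W → ℂ) (i t) = (η : A → ℂ) t) → ψ = χ ∨ ψ = χ')
  ovr : ∀ (χ : IrrCharacter W) (η : IrrCharacter A) (_ : Fintype A),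
    classInner (fun t => (χ : W → ℂ) (i t)) (η : A → ℂ) ≠ 0 →
    (Over (i.comp j) lam (χ : W → ℂ) ↔ Over j lam (η : A → ℂ))
  col : ∀ _ : Fintype {χ : IrrCharacter W // Over (i.comp j) lam (χ : W → ℂ)},
    (Nat.card Z : ℂ) * ∑ χ : {χ : IrrCharacter W // Over (i.comp j) lam (χ : W → ℂ)},
      (χ.1 : W → ℂ) (i x * c) * conj ((χ.1 : W → ℂ) (i x * c)) =
      Nat.card (Subgroup.centralizer ({i x * c} : Set W))
  uv : ∀ χ : IrrCharacter W, Over (i.comp j) lam (χ : W → ℂ) →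
    ∃ u v p q : ℤ, (χ : W → ℂ) 1 = p + q ∧ (χ : W → ℂ) c = m * (p - q) ∧
      (χ : W → ℂ) (i x) = u + v ∧ (χ : W → ℂ) (i x * c) = m * (u - v) ∧ 3 ∣ u - p ∧ 3 ∣ v - q

omit [Group A] [Group W] [Finite W] in
theorem m_conj [Finite Z] (hmm : m ^ 2 = (lam zc : ℂ)) : m * conj m = 1 := by
  have h1 : (lam zc : ℂ) ^ Nat.card Z = 1 := by
    rw [← Units.val_pow_eq_pow_val, ← map_pow, pow_card_eq_one', map_one, Units.val_one]
  have h2 : ‖m‖ ^ (2 * Nat.card Z) = 1 := by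
    rw [← norm_pow, pow_mul, hmm, h1, norm_one]
  have h3 : ‖m‖ = 1 := by
    refine (pow_eq_one_iff_of_nonneg (norm_nonneg m) ?_).1 h2
    have := Nat.card_pos (α := Z)
    omega
  rw [Complex.mul_conj, Complex.normSq_eq_norm_sq, h3]
  norm_num

/-- the data of an invariant member -/
theorem pick (h : Pair j i) (hc : c ∉ i.range) (H : Hyp j i lam x c m) (η : IrrCharacter A)
    (hη : Over j lam (η : A → ℂ)) (hI : Inv i c (η : A → ℂ)) :
    ∃ (χ χ' : IrrCharacter W) (δ : ℤ), χ ≠ χ' ∧ (∀ t, (χ : W → ℂ) (i t) = (η : A → ℂ) t) ∧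
      (∀ t, (χ' : W → ℂ) (i t) = (η : A → ℂ) t) ∧ Over (i.comp j) lam (χ : W → ℂ) ∧
      Over (i.comp j) lam (χ' : W → ℂ) ∧
      (∀ ψ : IrrCharacter W, (∀ t, (ψ : W → ℂ) (i t) = (η : A → ℂ) t) → ψ = χ ∨ ψ = χ') ∧
      (χ : W → ℂ) (i x * c) = m * δ ∧ (χ' : W → ℂ) (i x * c) = -(m * δ) ∧
      ∃ w : ℤ, (η : A → ℂ) x = w ∧ 2 ∣ w - δ := by
  have hA : Finite A := Finite.of_injective i h.ii
  have hF : Fintype A := Fintype.ofFinite A
  obtain ⟨χ, χ', h1, h2, h3, h4, h5⟩ := H.ext η hI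
  have ho : ∀ ψ : IrrCharacter W, (∀ t, (ψ : W → ℂ) (i t) = (η : A → ℂ) t) →
      Over (i.comp j) lam (ψ : W → ℂ) := by
    intro ψ hψ
    refine (H.ovr ψ η hF ?_).2 hη
    have e : (fun t => (ψ : W → ℂ) (i t)) = (η : A → ℂ) := funext hψ
    rw [e, classInner_irr_self η.2]
    exact one_ne_zero
  obtain ⟨u, v, p, q, -, -, e1, e2, -, -⟩ := H.uv χ (ho χ h2)
  have hy : i x * c ∉ i.range := by
    intro h6
    exact hc ((Subgroup.mul_mem_cancel_left _ (show i x ∈ i.range from ⟨x, rfl⟩)).1 h6)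
  refine ⟨χ, χ', u - v, h1, h2, h3, ho χ h2, ho χ' h3, h5, ?_, ?_, u + v, ?_, ⟨v, by ring⟩⟩
  · rw [e2]; push_cast; ring
  · rw [h4 _ hy, e2]; push_cast; ring
  · rw [← h2, e1]; push_cast; ring

open scoped Classical in
/-- **the column of `x c`** -/
theorem core [Fintype (IrrCharacter A)] (h : Pair j i) (e : Elt j i lam x c d zc m n)
    (H : Hyp j i lam x c m) : ∃ δ : IrrCharacter A → ℤ,
      (∀ χ : IrrCharacter W, Over (i.comp j) lam (χ : W → ℂ) → ∀ η : IrrCharacter A,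
        (∀ t, (χ : W → ℂ) (i t) = (η : A → ℂ) t) →
        ((χ : W → ℂ) (i x * c) = m * δ η ∨ (χ : W → ℂ) (i x * c) = -(m * δ η))) ∧
      (∀ η : IrrCharacter A, Over j lam (η : A → ℂ) → Inv i c (η : A → ℂ) →
        ∃ w : ℤ, (η : A → ℂ) x = w ∧ 2 ∣ w - δ η) ∧
      ∑ η ∈ Finset.univ.filter (fun η : IrrCharacter A => Over j lam (η : A → ℂ) ∧
        (η : A → ℂ) x ≠ 0 ∧ Inv i c (η : A → ℂ)), δ η ^ 2 = n := by
  have hA : Finite A := Finite.of_injective i h.ii
  have hZ : Finite Z := Finite.of_injective (i.comp j) (h.ii.comp h.ji)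
  have hW : Finite (IrrCharacter W) := finite_irr
  have hWF : Fintype (IrrCharacter W) := Fintype.ofFinite _
  have hpick : ∀ η : IrrCharacter A, ∃ (χ χ' : IrrCharacter W) (δ : ℤ),
      Over j lam (η : A → ℂ) → Inv i c (η : A → ℂ) → (χ ≠ χ' ∧
      (∀ t, (χ : W → ℂ) (i t) = (η : A → ℂ) t) ∧
      (∀ t, (χ' : W → ℂ) (i t) = (η : A → ℂ) t) ∧ Over (i.comp j) lam (χ : W → ℂ) ∧
      Over (i.comp j) lam (χ' : W → ℂ) ∧
      (∀ ψ : IrrCharacter W, (∀ t, (ψ : W → ℂ) (i t) = (η : A → ℂ) t) → ψ = χ ∨ ψ = χ') ∧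
      (χ : W → ℂ) (i x * c) = m * δ ∧ (χ' : W → ℂ) (i x * c) = -(m * δ) ∧
      ∃ w : ℤ, (η : A → ℂ) x = w ∧ 2 ∣ w - δ) := by
    intro η
    by_cases h1 : Over j lam (η : A → ℂ) ∧ Inv i c (η : A → ℂ)
    · obtain ⟨χ, χ', δ, h2⟩ := pick h e.cA H η h1.1 h1.2
      exact ⟨χ, χ', δ, fun _ _ => h2⟩
    · exact ⟨⟨1, isIrr_one⟩, ⟨1, isIrr_one⟩, 0, fun h2 h3 => absurd ⟨h2, h3⟩ h1⟩
  choose X X' δ hX using hpick
  have hm := m_conj (zc := zc) e.mm
  -- the members of `W`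
  set y : W := i x * c with hy
  set D : Finset (IrrCharacter W) := Finset.univ.filter fun χ => Over (i.comp j) lam (χ : W → ℂ)
    with hD
  set D' : Finset (IrrCharacter W) := D.filter fun χ =>
    IsIrrCharacter A (fun t => (χ : W → ℂ) (i t)) ∧ (χ : W → ℂ) (i x) ≠ 0 with hD'
  set I : Finset (IrrCharacter A) := Finset.univ.filter (fun η : IrrCharacter A =>
    Over j lam (η : A → ℂ) ∧ (η : A → ℂ) x ≠ 0 ∧ Inv i c (η : A → ℂ)) with hI
  let f : IrrCharacter W → ℂ := fun χ => (χ : W → ℂ) y * conj ((χ : W → ℂ) y)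
  have hsumD : ∑ χ ∈ D, f χ = 2 * n := by
    have h1 := H.col inferInstance
    rw [e.card] at h1
    have hZ0 : (Nat.card Z : ℂ) ≠ 0 := Nat.cast_ne_zero.2 Nat.card_pos.ne'
    have h2 : ∑ χ ∈ D, f χ = ∑ χ : {χ : IrrCharacter W // Over (i.comp j) lam (χ : W → ℂ)},
        (χ.1 : W → ℂ) (i x * c) * conj ((χ.1 : W → ℂ) (i x * c)) := by
      rw [Finset.sum_subtype (p := fun χ : IrrCharacter W => Over (i.comp j) lam (χ : W → ℂ)) D
        (fun χ => by rw [hD, Finset.mem_filter]; simp) f]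
    rw [h2]
    apply mul_left_cancel₀ hZ0
    rw [h1]; push_cast; ring
  have hsumD' : ∑ χ ∈ D', f χ = 2 * n := by
    rw [← hsumD, hD']
    apply Finset.sum_filter_of_ne
    intro χ hχ hf
    have hχo : Over (i.comp j) lam (χ : W → ℂ) := (Finset.mem_filter.1 hχ).2
    have hy0 : (χ : W → ℂ) y ≠ 0 := by
      intro h1; apply hf
      show (χ : W → ℂ) y * conj ((χ : W → ℂ) y) = 0
      rw [h1, zero_mul]
    refine ⟨?_, fun h1 => hy0 (e.van χ hχo h1)⟩
    rcases H.res χ with h1 | h1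
    · exact h1.1
    · exfalso
      apply hy0
      apply h1.1
      intro h6
      have h7 : i x * c ∈ i.range := h6
      exact e.cA ((Subgroup.mul_mem_cancel_left _ (show i x ∈ i.range from ⟨x, rfl⟩)).1 h7)
  -- the restriction
  let r : IrrCharacter W → IrrCharacter A := fun χ =>
    if h1 : IsIrrCharacter A (fun t => (χ : W → ℂ) (i t)) then ⟨_, h1⟩ else ⟨1, isIrr_one⟩
  have hr : ∀ χ ∈ D', ∀ t, (χ : W → ℂ) (i t) = (r χ : A → ℂ) t := by
    intro χ hχ t
    have h1 := (Finset.mem_filter.1 hχ).2.1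
    have h2 : r χ = ⟨_, h1⟩ := dif_pos h1
    rw [h2]
  have hrI : ∀ χ ∈ D', r χ ∈ I := by
    intro χ hχ
    have h0 := hr χ hχ
    have h1 : (r χ : A → ℂ) = fun t => (χ : W → ℂ) (i t) := funext fun t => (h0 t).symm
    rw [hI, Finset.mem_filter]
    refine ⟨Finset.mem_univ _, ?_, ?_, ?_⟩
    · rw [h1]; exact over_res (Finset.mem_filter.1 (Finset.mem_filter.1 hχ).1).2
    · rw [← h0]; exact (Finset.mem_filter.1 hχ).2.2
    · rw [h1]; exact inv_of_res χ c
  have hfib : ∀ η ∈ I, ∑ χ ∈ D'.filter (fun χ => r χ = η), f χ = 2 * (δ η : ℂ) ^ 2 := by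
    intro η hη
    obtain ⟨-, hη1, hη2, hη3⟩ := Finset.mem_filter.1 hη
    obtain ⟨k1, k2, k3, k4, k5, k6, k7, k8, -⟩ := hX η hη1 hη3
    have hset : D'.filter (fun χ => r χ = η) = {X η, X' η} := by
      ext χ
      rw [Finset.mem_filter, Finset.mem_insert, Finset.mem_singleton]
      constructor
      · rintro ⟨h1, rfl⟩
        exact k6 χ (hr χ h1)
      · have key : ∀ ψ : IrrCharacter W, (∀ t, (ψ : W → ℂ) (i t) = (η : A → ℂ) t) →
            Over (i.comp j) lam (ψ : W → ℂ) → ψ ∈ D' ∧ r ψ = η := by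
          intro ψ h1 h2
          have h3 : (fun t => (ψ : W → ℂ) (i t)) = (η : A → ℂ) := funext h1
          have h4 : IsIrrCharacter A (fun t => (ψ : W → ℂ) (i t)) := by rw [h3]; exact η.2
          have h5 : ψ ∈ D' := Finset.mem_filter.2 ⟨Finset.mem_filter.2 ⟨Finset.mem_univ _, h2⟩,
            h4, by rw [h1]; exact hη2⟩
          refine ⟨h5, Subtype.ext (funext fun t => ?_)⟩
          rw [← hr ψ h5 t, h1]
        rintro (rfl | rfl)
        · exact key _ k2 k4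
        · exact key _ k3 k5
    rw [hset, Finset.sum_pair k1]
    show (X η : W → ℂ) y * conj ((X η : W → ℂ) y) + (X' η : W → ℂ) y * conj ((X' η : W → ℂ) y) = _
    rw [k7, k8, map_neg, map_mul, map_intCast]
    have e1 : m * (δ η : ℂ) * (conj m * (δ η : ℂ)) = (m * conj m) * (δ η : ℂ) ^ 2 := by ring
    have e2 : -(m * (δ η : ℂ)) * -(conj m * (δ η : ℂ)) = (m * conj m) * (δ η : ℂ) ^ 2 := by ring
    rw [e1, e2, hm]; ring
  have hfin : ∑ η ∈ I, (δ η : ℂ) ^ 2 = n := by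
    have h1 := Finset.sum_fiberwise_of_maps_to hrI f
    rw [hsumD', Finset.sum_congr rfl hfib, ← Finset.mul_sum] at h1
    exact mul_left_cancel₀ (two_ne_zero) h1
  refine ⟨δ, ?_, fun η h1 h2 => (hX η h1 h2).2.2.2.2.2.2.2.2, ?_⟩
  · intro χ hχ η hη
    have h1 : (η : A → ℂ) = fun t => (χ : W → ℂ) (i t) := funext fun t => (hη t).symm
    have h2 : Over j lam (η : A → ℂ) := by rw [h1]; exact over_res hχ
    have h3 : Inv i c (η : A → ℂ) := by rw [h1]; exact inv_of_res χ c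
    obtain ⟨-, -, -, -, -, k6, k7, k8, -⟩ := hX η h2 h3
    rcases k6 χ hη with rfl | rfl
    · exact Or.inl k7
    · exact Or.inr k8
  · have h1 : ((∑ η ∈ I, δ η ^ 2 : ℤ) : ℂ) = ((n : ℤ) : ℂ) := by
      push_cast
      exact hfin
    exact_mod_cast h1

open scoped Classical in
/-- everything for the arithmetic -/
theorem ready [Fintype (IrrCharacter A)] (h : Pair j i) (e : Elt j i lam x c d zc m n)
    (s : Six j lam x) (H : Hyp j i lam x c m) : ∃ (I : Finset (IrrCharacter A)) (s0 : IrrCharacter A)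
      (δ : IrrCharacter A → ℤ),
      (∀ η : IrrCharacter A, η ∈ I ↔ Over j lam (η : A → ℂ) ∧ (η : A → ℂ) x ≠ 0 ∧
        Inv i c (η : A → ℂ)) ∧ s0 ∈ I ∧ ((s0 : A → ℂ) x = 2 ∨ (s0 : A → ℂ) x = -2) ∧
      (∀ η : IrrCharacter A, Over j lam (η : A → ℂ) → (η : A → ℂ) x ≠ 0 → η ≠ s0 →
        ((η : A → ℂ) x = 1 ∨ (η : A → ℂ) x = -1)) ∧
      (Finset.univ.filter fun η : IrrCharacter A => Over j lam (η : A → ℂ) ∧
        (η : A → ℂ) x ≠ 0).card = 6 ∧ Even I.card ∧ I.card ≤ 6 ∧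
      (∀ η ∈ I, η ≠ s0 → ¬ 2 ∣ δ η) ∧ 2 ∣ δ s0 ∧ ∑ η ∈ I, δ η ^ 2 = n ∧
      (∀ χ : IrrCharacter W, Over (i.comp j) lam (χ : W → ℂ) → ∀ η : IrrCharacter A,
        (∀ t, (χ : W → ℂ) (i t) = (η : A → ℂ) t) →
        ((χ : W → ℂ) (i x * c) = m * δ η ∨ (χ : W → ℂ) (i x * c) = -(m * δ η))) := by
  obtain ⟨h6, s0, hs1, hs2, hs3⟩ := six_card s
  obtain ⟨δ, hδ1, hδ2, hδ3⟩ := core h e H
  have hev := even_noninv (lam := lam) h e.cc e.cx
  have hsplit := Finset.card_filter_add_card_filter_not (s := Finset.univ.filter fun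
    η : IrrCharacter A => Over j lam (η : A → ℂ) ∧ (η : A → ℂ) x ≠ 0)
    (fun η => Inv i c (η : A → ℂ))
  rw [Finset.filter_filter, Finset.filter_filter, h6] at hsplit
  have eI : (Finset.univ.filter fun η : IrrCharacter A => (Over j lam (η : A → ℂ) ∧
      (η : A → ℂ) x ≠ 0) ∧ Inv i c (η : A → ℂ)) = Finset.univ.filter (fun η : IrrCharacter A =>
        Over j lam (η : A → ℂ) ∧ (η : A → ℂ) x ≠ 0 ∧ Inv i c (η : A → ℂ)) := by
    ext η; simp only [Finset.mem_filter, Finset.mem_univ, true_and, and_assoc]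
  rw [eI] at hsplit
  -- `s0` is invariant
  obtain ⟨φ, hφ⟩ := exists_phi h c
  have hφx : φ x = x := by
    apply h.ii
    rw [hφ, e.cx, mul_inv_cancel_right]
  have hs0 : Inv i c (s0 : A → ℂ) := by
    rw [inv_iff h hφ]
    let g : IrrCharacter A := ⟨(s0 : A → ℂ) ∘ φ, isIrr_comp φ (phi_surj h hφ) s0.2⟩
    have hgx : (g : A → ℂ) x = (s0 : A → ℂ) x := by
      show (s0 : A → ℂ) (φ x) = _
      rw [hφx]
    have hgo : Over j lam (g : A → ℂ) := by
      intro z a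
      show (s0 : A → ℂ) (φ (j z * a)) = _
      have h1 : φ (j z * a) = j z * φ a := by
        rw [map_mul]
        congr 1
        apply h.ii
        rw [hφ, ← h.cen z c, mul_inv_cancel_right]
      rw [h1, hs1]
      rfl
    have hg : g = s0 := by
      by_contra hne
      have h1 := hs3 g hgo (by rw [hgx]; rcases hs2 with h2 | h2 <;> rw [h2] <;> norm_num) hne
      rw [hgx] at h1
      rcases hs2 with h2 | h2 <;> rw [h2] at h1 <;> rcases h1 with h1 | h1 <;> norm_num at h1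
    intro a
    exact congrArg (fun ψ : IrrCharacter A => (ψ : A → ℂ) a) hg
  have hs0x : (s0 : A → ℂ) x ≠ 0 := by rcases hs2 with h2 | h2 <;> rw [h2] <;> norm_num
  refine ⟨Finset.univ.filter (fun η : IrrCharacter A =>
        Over j lam (η : A → ℂ) ∧ (η : A → ℂ) x ≠ 0 ∧ Inv i c (η : A → ℂ)), s0, δ,
    fun η => ?_, ?_, hs2, hs3, h6, ?_, by omega, ?_, ?_, hδ3, hδ1⟩
  · simp only [Finset.mem_filter, Finset.mem_univ, true_and]
  · exact Finset.mem_filter.2 ⟨Finset.mem_univ _, hs1, hs0x, hs0⟩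
  · obtain ⟨t, ht⟩ := hev
    exact ⟨3 - t, by omega⟩
  · intro η hη hne h2
    obtain ⟨-, h3, h4, h5⟩ := Finset.mem_filter.1 hη
    obtain ⟨w, hw, hw2⟩ := hδ2 η h3 h5
    have h7 : 2 ∣ w := by
      have := dvd_add hw2 h2
      rwa [sub_add_cancel] at this
    rcases hs3 η h3 h4 hne with h8 | h8
    · rw [hw] at h8
      have h9 : w = 1 := by exact_mod_cast h8
      omega
    · rw [hw] at h8
      have h9 : w = -1 := by exact_mod_cast h8
      omega
  · obtain ⟨w, hw, hw2⟩ := hδ2 s0 hs1 hs0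
    have h7 : 2 ∣ w := by
      rcases hs2 with h8 | h8
      · rw [hw] at h8
        have h9 : w = 2 := by exact_mod_cast h8
        omega
      · rw [hw] at h8
        have h9 : w = -2 := by exact_mod_cast h8
        omega
    have h8 := dvd_sub h7 hw2
    rwa [sub_sub_cancel] at h8

/-- **two3** -/
theorem two3 (h : Pair j i) (e : Elt j i lam x c d zc m 3) (s : Six j lam x)
    (H : Hyp j i lam x c m) :
    Nat.card {η : IrrCharacter A // Over j lam (η : A → ℂ) ∧ (η : A → ℂ) x ≠ 0 ∧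
      Inv i c (η : A → ℂ)} = 4 ∧
    ∀ χ : IrrCharacter W, Over (i.comp j) lam (χ : W → ℂ) → (χ : W → ℂ) (i x) ^ 2 = 4 →
      (χ : W → ℂ) (i x * c) = 0 := by
  classical
  have hA : Finite A := Finite.of_injective i h.ii
  have hF : Finite (IrrCharacter A) := finite_irr
  have hFF : Fintype (IrrCharacter A) := Fintype.ofFinite _
  obtain ⟨I, s0, δ, hI, hs0, hs2, hs3, h6, hev, hle, hodd, heven, hsum, hext⟩ := ready h e s H
  obtain ⟨h4, hδ0⟩ := arith3 I s0 hs0 δ hev hle hodd heven hsum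
  constructor
  · rw [Nat.card_eq_fintype_card, Fintype.card_subtype, ← h4]
    congr 1
    ext η
    rw [hI, Finset.mem_filter]
    simp
  · intro χ hχ h2
    rcases H.res χ with ⟨h1, -⟩ | ⟨h1, -⟩
    · have hx : (fun t => (χ : W → ℂ) (i t)) x ≠ 0 := by
        show (χ : W → ℂ) (i x) ≠ 0
        intro h3; rw [h3] at h2; norm_num at h2
      have hη : (⟨_, h1⟩ : IrrCharacter A) = s0 := by
        by_contra hne
        have h3 := hs3 ⟨_, h1⟩ (over_res hχ) hx hne
        have h4 : (χ : W → ℂ) (i x) = 1 ∨ (χ : W → ℂ) (i x) = -1 := h3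
        rcases h4 with h5 | h5 <;> rw [h5] at h2 <;> norm_num at h2
      have h3 := hext χ hχ ⟨_, h1⟩ (fun _ => rfl)
      rw [hη, hδ0] at h3
      simpa using h3
    · apply h1
      intro h7
      exact e.cA ((Subgroup.mul_mem_cancel_left _ (show i x ∈ i.range from ⟨x, rfl⟩)).1 h7)

/-- **two9** -/
theorem two9 (h : Pair j i) (e : Elt j i lam x c d zc m 9) (s : Six j lam x)
    (H : Hyp j i lam x c m) :
    (Nat.card {η : IrrCharacter A // Over j lam (η : A → ℂ) ∧ (η : A → ℂ) x ≠ 0 ∧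
        Inv i c (η : A → ℂ)} = 6 ∧
      ∀ χ : IrrCharacter W, Over (i.comp j) lam (χ : W → ℂ) → (χ : W → ℂ) (i x) ≠ 0 →
        ∃ k : ℤ, (χ : W → ℂ) (i x * c) = m * k ∧ ¬ 3 ∣ k) ∨
    (Nat.card {η : IrrCharacter A // Over j lam (η : A → ℂ) ∧ (η : A → ℂ) x ≠ 0 ∧
        Inv i c (η : A → ℂ)} = 2 ∧
      ∀ χ : IrrCharacter W, Over (i.comp j) lam (χ : W → ℂ) →
        ((χ : W → ℂ) (i x * c) = 0 ∨ (χ : W → ℂ) (i x * c) = 3 * m ∨
          (χ : W → ℂ) (i x * c) = -(3 * m)) ∧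
        (IsIrrCharacter A (fun t => (χ : W → ℂ) (i t)) → (χ : W → ℂ) (i x) ^ 2 = 1 →
          (χ : W → ℂ) (i x * c) ≠ 0) ∧
        ((χ : W → ℂ) (i x) ^ 2 = 4 → (χ : W → ℂ) (i x * c) = 0)) := by
  classical
  have hA : Finite A := Finite.of_injective i h.ii
  have hZ : Finite Z := Finite.of_injective (i.comp j) (h.ii.comp h.ji)
  have hF : Finite (IrrCharacter A) := finite_irr
  have hFF : Fintype (IrrCharacter A) := Fintype.ofFinite _
  obtain ⟨I, s0, δ, hI, hs0, hs2, hs3, h6, hev, hle, hodd, heven, hsum, hext⟩ := ready h e s H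
  have hcard : Nat.card {η : IrrCharacter A // Over j lam (η : A → ℂ) ∧ (η : A → ℂ) x ≠ 0 ∧
        Inv i c (η : A → ℂ)} = I.card := by
    rw [Nat.card_eq_fintype_card, Fintype.card_subtype]
    congr 1
    ext η
    rw [hI, Finset.mem_filter]
    simp
  have hm0 : m ≠ 0 := by
    intro h0
    have h1 := m_conj (zc := zc) e.mm
    rw [h0, zero_mul] at h1
    exact zero_ne_one h1
  have hout : i x * c ∉ i.range := fun h7 =>
    e.cA ((Subgroup.mul_mem_cancel_left _ (show i x ∈ i.range from ⟨x, rfl⟩)).1 h7)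
  rw [hcard]
  rcases arith9 I s0 hs0 δ hev hle hodd heven hsum with ⟨hc6, h3⟩ | ⟨hc2, h3, hδ0⟩
  · left
    refine ⟨hc6, fun χ hχ hx => ?_⟩
    -- all six members are invariant
    have hall : ∀ η : IrrCharacter A, Over j lam (η : A → ℂ) → (η : A → ℂ) x ≠ 0 →
        Inv i c (η : A → ℂ) := by
      have hsub : I ⊆ Finset.univ.filter fun η : IrrCharacter A => Over j lam (η : A → ℂ) ∧
          (η : A → ℂ) x ≠ 0 := by
        intro η hη
        have := (hI η).1 hη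
        exact Finset.mem_filter.2 ⟨Finset.mem_univ _, this.1, this.2.1⟩
      have heq := Finset.eq_of_subset_of_card_le hsub (by rw [h6, hc6])
      intro η h1 h2
      have h4 : η ∈ I := by
        rw [heq]; exact Finset.mem_filter.2 ⟨Finset.mem_univ _, h1, h2⟩
      exact ((hI η).1 h4).2.2
    rcases H.res χ with ⟨h1, h1'⟩ | ⟨-, η, η', hne, h1, h2, h4⟩
    · have h5 := hext χ hχ ⟨_, h1⟩ (fun _ => rfl)
      have h7 : (⟨_, h1⟩ : IrrCharacter A) ∈ I := (hI _).2 ⟨over_res hχ, hx, h1'⟩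
      have h8 := h3 _ h7
      rcases h5 with h5 | h5
      · exact ⟨_, h5, h8⟩
      · refine ⟨-δ ⟨_, h1⟩, ?_, fun h9 => h8 ((dvd_neg).1 h9)⟩
        rw [h5]; push_cast; ring
    · exfalso
      apply h4
      have hAF : Fintype A := Fintype.ofFinite A
      apply hall η
      · refine (H.ovr χ η hAF ?_).1 hχ
        have e1 : (fun t => (χ : W → ℂ) (i t)) = (η : A → ℂ) + (η' : A → ℂ) := funext h1
        rw [e1, classInner_add_left, classInner_irr_self η.2,
          classInner_irr_ne η'.2 η.2 (fun h5 => hne (Subtype.ext h5.symm)), add_zero]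
        exact one_ne_zero
      · have h5 : (η : A → ℂ) x = (η' : A → ℂ) x :=
          h2 x x (by rw [e.cx, mul_inv_cancel_right])
        intro h8
        apply hx
        rw [h1, ← h5, h8, add_zero]
  · right
    refine ⟨hc2, fun χ hχ => ?_⟩
    rcases H.res χ with ⟨h1, h1'⟩ | ⟨h1, η, η', hne, h11, -, -⟩
    · have h5 := hext χ hχ ⟨_, h1⟩ (fun _ => rfl)
      by_cases hx : (χ : W → ℂ) (i x) = 0
      · have h8 := e.van χ hχ hx
        refine ⟨Or.inl h8, fun _ h9 => ?_, fun _ => h8⟩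
        rw [hx] at h9; norm_num at h9
      · have h7 : (⟨_, h1⟩ : IrrCharacter A) ∈ I := (hI _).2 ⟨over_res hχ, hx, h1'⟩
        by_cases hη : (⟨_, h1⟩ : IrrCharacter A) = s0
        · rw [hη, hδ0] at h5
          have h8 : (χ : W → ℂ) (i x * c) = 0 := by simpa using h5
          refine ⟨Or.inl h8, fun _ h9 => ?_, fun _ => h8⟩
          exfalso
          have h10 : (s0 : A → ℂ) x = (χ : W → ℂ) (i x) := by rw [← hη]
          rw [← h10] at h9
          rcases hs2 with h11 | h11 <;> rw [h11] at h9 <;> norm_num at h9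
        · have h8 := h3 _ h7 hη
          have h9 : (χ : W → ℂ) (i x * c) = 3 * m ∨ (χ : W → ℂ) (i x * c) = -(3 * m) := by
            rcases h8 with h8 | h8 <;> rcases h5 with h5 | h5 <;> rw [h8] at h5 <;> push_cast at h5
            · left; rw [h5]; ring
            · right; rw [h5]; ring
            · right; rw [h5]; ring
            · left; rw [h5]; ring
          refine ⟨Or.inr h9, fun _ _ => ?_, fun h10 => ?_⟩
          · rcases h9 with h9 | h9 <;> rw [h9]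
            · exact mul_ne_zero three_ne_zero hm0
            · exact neg_ne_zero.2 (mul_ne_zero three_ne_zero hm0)
          · exfalso
            have h11 := hs3 ⟨_, h1⟩ (over_res hχ) hx hη
            have h12 : (χ : W → ℂ) (i x) = 1 ∨ (χ : W → ℂ) (i x) = -1 := h11
            rcases h12 with h13 | h13 <;> rw [h13] at h10 <;> norm_num at h10
    · have h8 := h1 _ hout
      refine ⟨Or.inl h8, fun h9 _ => ?_, fun _ => h8⟩
      exfalso
      have hAF : Fintype A := Fintype.ofFinite A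
      have e1 : (fun t => (χ : W → ℂ) (i t)) = (η : A → ℂ) + (η' : A → ℂ) := funext h11
      have h12 := classInner_irr_self h9
      rw [e1, classInner_add_left, classInner_add_right, classInner_add_right,
        classInner_irr_self η.2, classInner_irr_self η'.2,
        classInner_irr_ne η'.2 η.2 (fun h5 => hne (Subtype.ext h5.symm)),
        classInner_irr_ne η.2 η'.2 (fun h5 => hne (Subtype.ext h5))] at h12
      norm_num at h12

end core

end Cfsg.Agent.H761.TI
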